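import Groth.Prelude.Def_Curv2
import Groth.Agent.RedNorm.Basic
import Mathlib.RingTheory.LocalRing.Length
import Mathlib.RingTheory.DiscreteValuationRing.TFAE
import Mathlib.RingTheory.Artinian.Ring
import Mathlib.RingTheory.KrullDimension.Basic
import Mathlib.RingTheory.Filtration
import Mathlib.RingTheory.LocalProperties.Basic
import Mathlib.RingTheory.Ideal.GoingUp

/-!
# The δ-invariant under flat extensions with geometrically reduced closed fibres

If `A` is a reduced one-dimensional Noetherian local ring with finite normalization `A'`, and `B` is a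
Noetherian local flat extension with `m_A B = m_B` such that `B ⊗_A κ(m')` is reduced for each maximal
ideal `m'` of `A'`, then `B ⊗_A A'` is the normalization of `B` and `δ(B) = δ(A)`.
-/

set_option linter.style.haveILetI false
set_option linter.unusedSectionVars false

open IsLocalRing TensorProduct

namespace Groth.Agent.DeltaLib

universe u

/-- A Noetherian local ring with principal maximal ideal and a nonunit nonzerodivisor is a DVR. -/
theorem dvr_of_principal_maximalIdeal {R : Type u} [CommRing R] [IsLocalRing R] [IsNoetherianRing R]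
    (π : R) (hπ : maximalIdeal R = Ideal.span {π}) {t : R} (ht : t ∈ nonZeroDivisors R) (htm : t ∈ maximalIdeal R) :
    IsDomain R ∧ IsIntegrallyClosed R := by
  have hdecomp : ∀ x : R, x ≠ 0 → ∃ (k : ℕ) (v : R), IsUnit v ∧ x = π ^ k * v := by
    intro x hx
    have : ∃ k, x ∉ maximalIdeal R ^ k := by
      by_contra hcon
      push Not at hcon
      refine hx ?_
      have h := Ideal.iInf_pow_eq_bot_of_isLocalRing (maximalIdeal R) (maximalIdeal.isMaximal R).ne_top
      rw [← Ideal.mem_bot, ← h]
      exact Submodule.mem_iInf _ |>.2 hcon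
    classical
    obtain ⟨k, hk⟩ : ∃ k, Nat.find this = k + 1 :=
      Nat.exists_eq_succ_of_ne_zero fun h0 => (Nat.find_spec this) (by rw [h0]; simp)
    have h1 : x ∈ maximalIdeal R ^ k := not_not.1 (Nat.find_min this (by omega))
    have h2 : x ∉ maximalIdeal R ^ (k + 1) := hk ▸ Nat.find_spec this
    rw [hπ, Ideal.span_singleton_pow, Ideal.mem_span_singleton] at h1 h2
    obtain ⟨v, rfl⟩ := h1
    refine ⟨k, v, ?_, rfl⟩
    by_contra hv
    refine h2 (pow_succ π k ▸ mul_dvd_mul_left _ ?_)
    rw [← Ideal.mem_span_singleton, ← hπ]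
    exact (mem_maximalIdeal v).2 hv
  have hπnil : ∀ k, π ^ k ≠ 0 := by
    intro k h
    obtain ⟨w, hw⟩ : π ∣ t := by rw [← Ideal.mem_span_singleton, ← hπ]; exact htm
    have : t ^ k = 0 := by rw [hw, mul_pow, h, zero_mul]
    exact nonZeroDivisors.ne_zero (pow_mem ht k) this
  haveI : NoZeroDivisors R := ⟨fun {x y} h => by
    by_contra hcon
    push Not at hcon
    obtain ⟨a, v, hv, rfl⟩ := hdecomp x hcon.1
    obtain ⟨b, w, hw, rfl⟩ := hdecomp y hcon.2
    refine hπnil (a + b) ((hv.mul hw).mul_left_eq_zero.1 ?_)
    rw [← h, pow_add]; ring⟩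
  haveI : IsDomain R := NoZeroDivisors.to_isDomain R
  refine ⟨inferInstance, ?_⟩
  have hnf : ¬ IsField R := fun hf => by
    rw [IsLocalRing.isField_iff_maximalIdeal_eq] at hf
    rw [hf, Ideal.mem_bot] at htm
    exact nonZeroDivisors.ne_zero ht htm
  have : IsDiscreteValuationRing R :=
    ((IsDiscreteValuationRing.TFAE R hnf).out 0 4).2 (⟨⟨π, hπ⟩⟩ : (maximalIdeal R).IsPrincipal)
  infer_instance

/-- In an Artinian reduced ring every element of a maximal ideal is killed outside it. -/
theorem exists_notMem_mul_eq_zero {Q : Type u} [CommRing Q] [IsArtinianRing Q] [IsReduced Q]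
    (n : Ideal Q) [n.IsMaximal] {x : Q} (hx : x ∈ n) : ∃ s ∉ n, s * x = 0 := by
  classical
  haveI := Fintype.ofFinite (MaximalSpectrum Q)
  have : ∀ p : MaximalSpectrum Q, p.asIdeal ≠ n → ∃ s, s ∈ p.asIdeal ∧ s ∉ n := fun p hp => by
    by_contra hcon
    push Not at hcon
    exact hp (p.isMaximal.eq_of_le (Ideal.IsMaximal.ne_top ‹_›) hcon)
  choose s hs hsn using this
  let σ : MaximalSpectrum Q → Q := fun p => if h : p.asIdeal = n then 1 else s p h
  have hσn : ∀ p, σ p ∉ n := fun p => by
    by_cases h : p.asIdeal = n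
    · simp only [σ, dif_pos h]; exact fun h1 => (Ideal.IsMaximal.ne_top ‹_›) ((Ideal.eq_top_iff_one n).2 h1)
    · simp only [σ, dif_neg h]; exact hsn p h
  refine ⟨∏ p, σ p, fun h => ?_, ?_⟩
  · obtain ⟨p, -, hp⟩ := (Ideal.IsMaximal.isPrime ‹n.IsMaximal›).prod_mem_iff.1 h
    exact hσn p hp
  · refine IsReduced.eq_zero _ (nilpotent_iff_mem_prime.2 fun J hJ => ?_)
    haveI := hJ
    haveI := IsArtinianRing.isMaximal_of_isPrime J
    by_cases h : J = n
    · exact J.mul_mem_left _ (h ▸ hx)
    · refine J.mul_mem_right _ (Ideal.mem_of_dvd J (Finset.dvd_prod_of_mem σ (Finset.mem_univ ⟨J, ‹_›⟩)) ?_)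
      simp only [σ, dif_neg h]
      exact hs ⟨J, ‹_›⟩ h

section main

variable {A : Type u} [CommRing A] [IsLocalRing A] [IsNoetherianRing A] [IsReduced A]
  (hfin : Module.Finite A (integralClosure A (FractionRing A))) (hdim : ringKrullDim A = 1)
  (B : Type u) [CommRing B] [IsLocalRing B] [IsNoetherianRing B] [Algebra A B] [Module.Flat A B]
  [IsLocalHom (algebraMap A B)] (hm : (maximalIdeal A).map (algebraMap A B) = maximalIdeal B)
  (hred : ∀ m : Ideal (integralClosure A (FractionRing A)), m.IsMaximal →
    IsReduced (B ⊗[A] (integralClosure A (FractionRing A) ⧸ m)))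

local notation "N" => integralClosure A (FractionRing A)

omit [IsNoetherianRing B] [IsLocalHom (algebraMap A B)] [Module.Flat A B] [IsLocalRing B] in
include hdim in
theorem exists_nzd_mem : ∃ u ∈ maximalIdeal A, u ∈ nonZeroDivisors A := by
  by_contra hcon
  push Not at hcon
  have hsub : (maximalIdeal A : Set A) ⊆ ⋃ p ∈ (minimalPrimes.finite_of_isNoetherianRing A).toFinset, (p : Set A) := by
    intro x hx
    have := hcon x hx
    rw [RedNorm.mem_nonZeroDivisors_iff] at this
    push Not at this
    obtain ⟨p, hp⟩ := this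
    exact Set.mem_biUnion ((minimalPrimes.finite_of_isNoetherianRing A).mem_toFinset.2 p.2) hp
  obtain ⟨p, hp, hle⟩ := (Ideal.subset_union_prime (f := id) ⊥ ⊥ (fun q hq _ _ =>
    ((minimalPrimes.finite_of_isNoetherianRing A).mem_toFinset.1 hq).1.1)).1 hsub
  have hp' := (minimalPrimes.finite_of_isNoetherianRing A).mem_toFinset.1 hp
  have e : p = maximalIdeal A := le_antisymm (le_maximalIdeal hp'.1.1.ne_top) hle
  have h0 : (maximalIdeal A).height = 0 := Ideal.height_eq_zero_iff.2 (e ▸ hp')
  rw [← IsLocalRing.maximalIdeal_height_eq_ringKrullDim, h0] at hdim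
  exact absurd hdim (by simp)

omit [IsNoetherianRing B] [IsLocalHom (algebraMap A B)] [Module.Flat A B] [IsLocalRing B] in
include hfin in
theorem exists_denom : ∃ t ∈ nonZeroDivisors A, ∀ z : N, ∃ a : A, algebraMap A N a = t • z := by
  obtain ⟨s, hs⟩ := hfin.fg_top
  obtain ⟨⟨c, hc⟩, hc'⟩ := IsLocalization.exist_integer_multiples (nonZeroDivisors A) s
    (fun z => (z : FractionRing A))
  refine ⟨c, hc, fun z => ?_⟩
  have hz : z ∈ Submodule.span A (s : Set N) := hs ▸ Submodule.mem_top
  induction hz using Submodule.span_induction with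
  | mem z hz =>
    obtain ⟨a, ha⟩ := hc' z hz
    exact ⟨a, Subtype.ext ha⟩
  | zero => exact ⟨0, by simp⟩
  | add y z _ _ hy hz =>
    obtain ⟨a, ha⟩ := hy
    obtain ⟨b, hb⟩ := hz
    exact ⟨a + b, by rw [map_add, ha, hb, smul_add]⟩
  | smul r z _ hz =>
    obtain ⟨a, ha⟩ := hz
    exact ⟨r * a, by rw [map_mul, ha, smul_comm c r z, Algebra.smul_def r]⟩

omit [IsNoetherianRing B] [IsLocalHom (algebraMap A B)] [Module.Flat A B] [IsLocalRing B] in
include hfin hdim in
/-- At a maximal ideal the normalization has a local generator. -/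
theorem exists_generator (m : Ideal N) [m.IsMaximal] (hmA : m.comap (algebraMap A N) = maximalIdeal A) :
    ∃ π ∈ m, ∀ z ∈ m, ∃ c ∉ m, ∃ d : N, c * z = d * π := by
  haveI := hfin
  obtain ⟨hd, hic⟩ := RedNorm.localization_norm A m
  haveI : IsNoetherianRing N := IsNoetherianRing.of_finite A _
  haveI : IsNoetherianRing (Localization.AtPrime m) :=
    IsLocalization.isNoetherianRing m.primeCompl _ inferInstance
  obtain ⟨u, hum, hu⟩ := exists_nzd_mem (A := A) hdim
  have hun : algebraMap A N u ∈ m := (hmA.symm ▸ hum : u ∈ m.comap _)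
  have huN : algebraMap A N u ∈ nonZeroDivisors N := by
    refine mem_nonZeroDivisors_iff_right.2 fun z hz => Subtype.ext ?_
    have h1 : (z : FractionRing A) * algebraMap A (FractionRing A) u = 0 := congrArg Subtype.val hz
    exact ((IsLocalization.map_units (FractionRing A) (⟨u, hu⟩ : nonZeroDivisors A)).mul_left_eq_zero).1 h1
  have hnfm : ¬ IsField (Localization.AtPrime m) := fun hf => by
    have h1 : algebraMap N (Localization.AtPrime m) (algebraMap A N u) ∈ maximalIdeal (Localization.AtPrime m) :=
      (IsLocalization.AtPrime.to_map_mem_maximal_iff _ m _).2 hun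
    rw [IsLocalRing.isField_iff_maximalIdeal_eq.1 hf, Ideal.mem_bot,
      IsLocalization.map_eq_zero_iff m.primeCompl] at h1
    obtain ⟨⟨c, hc⟩, hc0⟩ := h1
    exact hc (by rw [(mem_nonZeroDivisors_iff_right.1 huN) c hc0]; exact m.zero_mem)
  haveI : IsDiscreteValuationRing (Localization.AtPrime m) := by
    have hmax : ∀ {P : Ideal (Localization.AtPrime m)}, P ≠ ⊥ → P.IsPrime → P.IsMaximal := by
      intro P hP hPp
      haveI := hPp
      let Q := P.comap (algebraMap N (Localization.AtPrime m))
      let Q₀ := RingHom.ker (algebraMap N (Localization.AtPrime m))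
      haveI : Q₀.IsPrime := RingHom.ker_isPrime _
      by_cases hQ : (Q.comap (algebraMap A N)).IsMaximal
      · haveI : Q.IsMaximal := Ideal.isMaximal_of_isIntegral_of_isMaximal_comap Q hQ
        have hQm : Q ≤ m := ((IsLocalization.isPrime_iff_isPrime_disjoint m.primeCompl _ P).1 hPp).2.le_compl_left.trans
          (fun z hz => not_not.1 hz)
        have e : Q = m := Ideal.IsMaximal.eq_of_le ‹Q.IsMaximal› (Ideal.IsMaximal.ne_top ‹m.IsMaximal›) hQm
        have : P = maximalIdeal (Localization.AtPrime m) := by
          rw [← IsLocalization.map_comap m.primeCompl (Localization.AtPrime m) P, show P.under N = m from e,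
            IsLocalization.AtPrime.map_eq_maximalIdeal]
        rw [this]; infer_instance
      · exfalso
        haveI : Ring.KrullDimLE 1 A := Ring.krullDimLE_iff.2 hdim.le
        have hmin : Q.comap (algebraMap A N) ∈ minimalPrimes A :=
          (Ring.krullDimLE_one_iff.1 inferInstance _ inferInstance).resolve_right hQ
        obtain ⟨z, hzP, hz0⟩ := P.ne_bot_iff.1 hP
        obtain ⟨⟨x, c⟩, hx⟩ := IsLocalization.surj m.primeCompl z
        have hle : Q₀ ≤ Q := fun y hy => by
          show algebraMap N _ y ∈ P
          rw [RingHom.mem_ker.1 hy]; exact P.zero_mem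
        have hxQ : x ∈ Q := by
          show algebraMap N _ x ∈ P
          rw [← hx]; exact P.mul_mem_right _ hzP
        have hxQ₀ : x ∉ Q₀ := fun h => by
          rw [RingHom.mem_ker.1 h] at hx
          exact hz0 ((IsLocalization.map_units (Localization.AtPrime m) c).mul_left_eq_zero.1 hx)
        have hlt := Ideal.comap_lt_comap_of_integral_mem_sdiff (R := A) hle ⟨hxQ, hxQ₀⟩
          (Algebra.IsIntegral.isIntegral x)
        exact lt_irrefl _ (lt_of_le_of_lt (hmin.2 ⟨inferInstance, bot_le⟩ hlt.le) hlt)
    have hded : IsDedekindDomain (Localization.AtPrime m) := { maximalOfPrime := hmax }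
    exact ((IsDiscreteValuationRing.TFAE (Localization.AtPrime m) hnfm).out 0 2).2 hded
  obtain ⟨w, hw⟩ := IsDiscreteValuationRing.exists_irreducible (Localization.AtPrime m)
  obtain ⟨⟨π, s⟩, hπs⟩ := IsLocalization.surj m.primeCompl w
  refine ⟨π, ?_, fun z hz => ?_⟩
  · refine (IsLocalization.AtPrime.to_map_mem_maximal_iff (Localization.AtPrime m) m π).1 ?_
    rw [← hπs]
    exact Ideal.mul_mem_right _ _ ((IsDiscreteValuationRing.irreducible_iff_uniformizer w).1 hw ▸
      Ideal.mem_span_singleton_self w)
  · have h1 : algebraMap N (Localization.AtPrime m) z ∈ maximalIdeal (Localization.AtPrime m) :=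
      (IsLocalization.AtPrime.to_map_mem_maximal_iff _ m z).2 hz
    rw [(IsDiscreteValuationRing.irreducible_iff_uniformizer w).1 hw, Ideal.mem_span_singleton] at h1
    obtain ⟨q, hq⟩ := h1
    obtain ⟨⟨d, r⟩, hdr⟩ := IsLocalization.surj m.primeCompl q
    have h2 : algebraMap N (Localization.AtPrime m) (s * r * z) =
        algebraMap N (Localization.AtPrime m) (d * π) := by
      rw [map_mul, map_mul, map_mul, ← hπs, ← hdr, hq]; ring
    obtain ⟨c, hc⟩ := IsLocalization.exists_of_eq (M := m.primeCompl) h2
    exact ⟨c * (s * r), m.primeCompl.mul_mem c.2 (m.primeCompl.mul_mem s.2 r.2), c * d,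
      by rw [mul_assoc, hc, mul_assoc]⟩

end main

section fibre

variable {A : Type u} [CommRing A] [IsLocalRing A] {N : Type u} [CommRing N] [Algebra A N] [Module.Finite A N]
  {B : Type u} [CommRing B] [IsLocalRing B] [Algebra A B]
  (hm : (maximalIdeal A).map (algebraMap A B) = maximalIdeal B)

include hm in
/-- The fibre over a maximal ideal is Artinian. -/
theorem isArtinianRing_fibre (m : Ideal N) (hmA : m.comap (algebraMap A N) = maximalIdeal A) :
    IsArtinianRing ((B ⊗[A] N) ⧸ m.map (Algebra.TensorProduct.includeRight : N →ₐ[A] B ⊗[A] N).toRingHom) := by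
  let i₂ : N →ₐ[A] B ⊗[A] N := Algebra.TensorProduct.includeRight
  let I : Ideal (B ⊗[A] N) := m.map i₂.toRingHom
  show IsArtinianRing ((B ⊗[A] N) ⧸ I)
  haveI : Module.Finite B ((B ⊗[A] N) ⧸ I) := inferInstance
  have hkill : Module.IsTorsionBySet B ((B ⊗[A] N) ⧸ I) (maximalIdeal B : Set B) := by
    rintro q ⟨b, hb⟩
    show b • q = 0
    obtain ⟨q, rfl⟩ := Ideal.Quotient.mk_surjective q
    show Ideal.Quotient.mk I (b • q) = 0
    rw [Algebra.smul_def, Ideal.Quotient.eq_zero_iff_mem]
    refine I.mul_mem_right _ ?_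
    have h1 : (maximalIdeal B).map (algebraMap B (B ⊗[A] N)) ≤ I := by
      rw [← hm, Ideal.map_map, ← IsScalarTower.algebraMap_eq A B (B ⊗[A] N), ← i₂.comp_algebraMap,
        ← Ideal.map_map]
      exact Ideal.map_mono (Ideal.map_le_iff_le_comap.2 hmA.symm.le)
    exact h1 (Ideal.mem_map_of_mem _ hb)
  letI := hkill.module
  haveI := hkill.isScalarTower (S := B)
  haveI : IsArtinianRing (B ⧸ maximalIdeal B) := by
    letI := Ideal.Quotient.field (maximalIdeal B)
    infer_instance
  haveI : Module.Finite (B ⧸ maximalIdeal B) ((B ⊗[A] N) ⧸ I) :=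
    Module.Finite.of_restrictScalars_finite B _ _
  haveI : IsArtinian (B ⧸ maximalIdeal B) ((B ⊗[A] N) ⧸ I) := inferInstance
  haveI : IsArtinian B ((B ⊗[A] N) ⧸ I) :=
    isArtinian_of_surjective_algebraMap (R := B ⧸ maximalIdeal B) (by exact Ideal.Quotient.mk_surjective)
  exact isArtinian_of_tower B inferInstance

end fibre

section tensor

variable {A : Type u} [CommRing A] [IsLocalRing A] {N : Type u} [CommRing N] [Algebra A N] [Module.Finite A N]
  {B : Type u} [CommRing B] [IsLocalRing B] [IsNoetherianRing B] [Algebra A B] [Module.Flat A B]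
  [IsLocalHom (algebraMap A B)] (hm : (maximalIdeal A).map (algebraMap A B) = maximalIdeal B)
  (hred : ∀ m : Ideal N, m.IsMaximal → IsReduced (B ⊗[A] (N ⧸ m)))
  (hgen : ∀ m : Ideal N, m.IsMaximal → m.comap (algebraMap A N) = maximalIdeal A →
    ∃ π ∈ m, ∀ z ∈ m, ∃ c ∉ m, ∃ d : N, c * z = d * π)
  {u : A} (hu : u ∈ maximalIdeal A) (huN : ∀ z : N, algebraMap A N u * z = 0 → z = 0)

include hm hred hgen hu huN in
/-- The localizations of `B ⊗ A'` at maximal ideals are discrete valuation rings. -/
theorem localization_tensor (n : Ideal (B ⊗[A] N)) [n.IsMaximal] :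
    IsDomain (Localization.AtPrime n) ∧ IsIntegrallyClosed (Localization.AtPrime n) := by
  haveI : IsNoetherianRing (B ⊗[A] N) := IsNoetherianRing.of_finite B _
  haveI : IsNoetherianRing (Localization.AtPrime n) :=
    IsLocalization.isNoetherianRing n.primeCompl _ inferInstance
  let i₂ : N →ₐ[A] B ⊗[A] N := Algebra.TensorProduct.includeRight
  have hnB : n.comap (algebraMap B (B ⊗[A] N)) = maximalIdeal B :=
    IsLocalRing.eq_maximalIdeal (Ideal.isMaximal_comap_of_isIntegral_of_isMaximal n)
  let m : Ideal N := n.comap i₂.toRingHom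
  have hmA : m.comap (algebraMap A N) = maximalIdeal A := by
    refine ((IsLocalRing.maximalIdeal.isMaximal A).eq_of_le (Ideal.IsPrime.comap _).ne_top ?_).symm
    intro a ha
    show i₂ (algebraMap A N a) ∈ n
    rw [i₂.commutes, IsScalarTower.algebraMap_apply A B (B ⊗[A] N)]
    show algebraMap A B a ∈ n.comap (algebraMap B (B ⊗[A] N))
    rw [hnB, ← hm]
    exact Ideal.mem_map_of_mem _ ha
  haveI : m.IsMaximal :=
    Ideal.isMaximal_of_isIntegral_of_isMaximal_comap m (hmA ▸ IsLocalRing.maximalIdeal.isMaximal A)
  have hun : algebraMap A N u ∈ m := (hmA.symm ▸ hu : u ∈ m.comap _)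
  obtain ⟨π, hπm, hπ⟩ := hgen m inferInstance hmA
  let I : Ideal (B ⊗[A] N) := m.map i₂.toRingHom
  let e : ((B ⊗[A] N) ⧸ I) ≃+* B ⊗[A] (N ⧸ m) :=
    (Algebra.TensorProduct.tensorQuotientEquiv (R := A) B N B m).toRingEquiv.symm
  haveI : IsReduced ((B ⊗[A] N) ⧸ I) := by
    haveI := hred m inferInstance
    exact isReduced_of_injective e e.injective
  haveI : IsArtinianRing ((B ⊗[A] N) ⧸ I) := isArtinianRing_fibre hm m hmA
  have hIn : I ≤ n := Ideal.map_le_iff_le_comap.2 le_rfl
  haveI : (n.map (Ideal.Quotient.mk I)).IsMaximal :=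
    Ideal.IsMaximal.map_of_surjective_of_ker_le Ideal.Quotient.mk_surjective (by rwa [Ideal.mk_ker])
  have hcn : (n.map (Ideal.Quotient.mk I)).comap (Ideal.Quotient.mk I) = n := by
    rw [Ideal.comap_map_of_surjective _ Ideal.Quotient.mk_surjective, ← RingHom.ker_eq_comap_bot, Ideal.mk_ker,
      sup_eq_left.2 hIn]
  let L := Localization.AtPrime n
  have hmax : maximalIdeal L = Ideal.span {algebraMap (B ⊗[A] N) L (i₂ π)} := by
    refine le_antisymm ?_ ?_
    · rw [← IsLocalization.AtPrime.map_eq_maximalIdeal n L, Ideal.map_le_iff_le_comap]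
      intro x hx
      obtain ⟨c, hc, hc0⟩ := exists_notMem_mul_eq_zero (n.map (Ideal.Quotient.mk I))
        (Ideal.mem_map_of_mem _ hx : Ideal.Quotient.mk I x ∈ _)
      obtain ⟨c, rfl⟩ := Ideal.Quotient.mk_surjective c
      rw [← map_mul, Ideal.Quotient.eq_zero_iff_mem] at hc0
      have hcn' : c ∉ n := fun h => hc (Ideal.mem_map_of_mem _ h)
      have hI : I.map (algebraMap (B ⊗[A] N) L) ≤ Ideal.span {algebraMap (B ⊗[A] N) L (i₂ π)} := by
        rw [Ideal.map_map, Ideal.map_le_iff_le_comap]
        intro z hz
        obtain ⟨r, hr, d, hd⟩ := hπ z hz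
        have hru : IsUnit (algebraMap (B ⊗[A] N) L (i₂ r)) :=
          IsLocalization.map_units L (⟨i₂ r, hr⟩ : n.primeCompl)
        show algebraMap (B ⊗[A] N) L (i₂ z) ∈ Ideal.span _
        refine (Ideal.unit_mul_mem_iff_mem _ hru).1 ?_
        show algebraMap (B ⊗[A] N) L (i₂ r) * algebraMap (B ⊗[A] N) L (i₂ z) ∈ _
        rw [← map_mul, ← map_mul, hd, map_mul, map_mul]
        exact Ideal.mul_mem_left _ _ (Ideal.mem_span_singleton_self _)
      have h1 := hI (Ideal.mem_map_of_mem (algebraMap (B ⊗[A] N) L) hc0)
      rw [map_mul] at h1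
      exact (Ideal.unit_mul_mem_iff_mem _ (IsLocalization.map_units L (⟨c, hcn'⟩ : n.primeCompl))).1 h1
    · rw [Ideal.span_le, Set.singleton_subset_iff]
      exact (IsLocalization.AtPrime.to_map_mem_maximal_iff L n _).2 hπm
  -- the nonzerodivisor
  have hflat : Function.Injective fun x : B ⊗[A] N => (1 : B) ⊗ₜ[A] algebraMap A N u * x := by
    have hinj : Function.Injective (LinearMap.lTensor B (LinearMap.mulLeft A (algebraMap A N u))) :=
      Module.Flat.lTensor_preserves_injective_linearMap _ fun a b h => by
        exact sub_eq_zero.1 (huN _ ((mul_sub _ a b).trans (sub_eq_zero.2 h)))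
    have heq : ∀ x : B ⊗[A] N, (1 : B) ⊗ₜ[A] algebraMap A N u * x =
        LinearMap.lTensor B (LinearMap.mulLeft A (algebraMap A N u)) x := fun x => by
      induction x using TensorProduct.induction_on with
      | zero => simp
      | tmul b z => simp
      | add x y hx hy => rw [mul_add, hx, hy, map_add]
    intro x y h
    exact hinj ((heq x).symm.trans (h.trans (heq y)))
  refine dvr_of_principal_maximalIdeal _ hmax (t := algebraMap (B ⊗[A] N) L (i₂ (algebraMap A N u))) ?_ ?_
  · refine IsLocalization.nonZeroDivisors_le_comap n.primeCompl L ?_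
    refine mem_nonZeroDivisors_iff_left.2 fun x hx => hflat ?_
    show _ * x = _ * 0
    rw [mul_zero]
    exact hx
  · exact (IsLocalization.AtPrime.to_map_mem_maximal_iff L n _).2 hun

variable (A N B)

include hm hred hgen hu huN in
/-- `B ⊗ N` is the normalization of `B`, so the lengths of the cokernels agree. -/
theorem length_quotient_eq (hinj : Function.Injective (algebraMap A N)) (hNu : Algebra.IsIntegral A N)
    {t : A} (htA : ∀ z : A, t * z = 0 → z = 0) (htN : ∀ z : N, algebraMap A N t * z = 0 → z = 0)
    (hden : ∀ z : N, ∃ a : A, algebraMap A N a = t • z) :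
    Curv2.deltaInv B = Module.length A (N ⧸ LinearMap.range (Algebra.linearMap A N)) := by
  let T := B ⊗[A] N
  let L := FractionRing B
  have hi : Function.Injective (algebraMap B T) :=
    Algebra.TensorProduct.includeLeft_injective (S := B) (A := B) (B := N) hinj
  have htB : algebraMap A B t ∈ nonZeroDivisors B := by
    refine mem_nonZeroDivisors_iff_left.2 fun b hb => ?_
    have hinj : Function.Injective (LinearMap.lTensor B (LinearMap.mulLeft A t)) :=
      Module.Flat.lTensor_preserves_injective_linearMap _ fun a b h =>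
        sub_eq_zero.1 (htA _ ((mul_sub _ a b).trans (sub_eq_zero.2 h)))
    have h1 : (TensorProduct.rid A B).symm b = 0 := by
      refine hinj ?_
      rw [map_zero]
      apply (TensorProduct.rid A B).injective
      simp [Algebra.smul_def, hb]
    simpa using congrArg (TensorProduct.rid A B) h1
  have htT : ∀ x : T, algebraMap A T t * x = 0 → x = 0 := by
    intro x hx
    have hinj : Function.Injective (LinearMap.lTensor B (LinearMap.mulLeft A (algebraMap A N t))) :=
      Module.Flat.lTensor_preserves_injective_linearMap _ fun a b h =>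
        sub_eq_zero.1 (htN _ ((mul_sub _ a b).trans (sub_eq_zero.2 h)))
    have heq : ∀ y : T, LinearMap.lTensor B (LinearMap.mulLeft A (algebraMap A N t)) y = algebraMap A T t * y :=
      fun y => by
        induction y using TensorProduct.induction_on with
        | zero => simp
        | tmul b z =>
          show b ⊗ₜ[A] (algebraMap A N t * z) = algebraMap A (B ⊗[A] N) t * b ⊗ₜ[A] z
          rw [Algebra.TensorProduct.algebraMap_apply', Algebra.TensorProduct.tmul_mul_tmul, one_mul]
        | add x y hx' hy' => rw [map_add, hx', hy', mul_add]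
    exact hinj (by rw [map_zero, heq]; exact hx)
  have htimage : ∀ x : T, ∃ b : B, algebraMap B T b = algebraMap A T t * x := by
    intro x
    induction x using TensorProduct.induction_on with
    | zero => exact ⟨0, by simp⟩
    | tmul b z =>
      obtain ⟨a, ha⟩ := hden z
      refine ⟨a • b, ?_⟩
      rw [← Algebra.smul_def, TensorProduct.smul_tmul', TensorProduct.smul_tmul, ← ha,
        Algebra.algebraMap_eq_smul_one a, Algebra.TensorProduct.algebraMap_apply, Algebra.algebraMap_self,
        RingHom.id_apply, TensorProduct.smul_tmul]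
    | add x y hx hy =>
      obtain ⟨b, hb⟩ := hx
      obtain ⟨c, hc⟩ := hy
      exact ⟨b + c, by rw [map_add, hb, hc, mul_add]⟩
  choose num hnum using htimage
  let L := FractionRing B
  let tu : L := algebraMap B L (algebraMap A B t)
  have htu : IsUnit tu := IsLocalization.map_units L (⟨_, htB⟩ : nonZeroDivisors B)
  have hnum_add : ∀ x y, num (x + y) = num x + num y := fun x y => hi (by rw [map_add, hnum, hnum, hnum, mul_add])
  have hnum_mul : ∀ x y, algebraMap A B t * num (x * y) = num x * num y := fun x y => hi (by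
    rw [map_mul, map_mul, hnum, hnum, hnum, ← IsScalarTower.algebraMap_apply]; ring)
  have hnum_base : ∀ b, num (algebraMap B T b) = algebraMap A B t * b := fun b => hi (by
    rw [hnum, map_mul, ← IsScalarTower.algebraMap_apply])
  let j : T →ₐ[B] L :=
    { toFun := fun x => (↑htu.unit⁻¹ : L) * algebraMap B L (num x)
      map_one' := by
        rw [show num 1 = algebraMap A B t by simpa using hnum_base 1]
        exact htu.val_inv_mul
      map_mul' := fun x y => by
        refine htu.mul_right_injective (?_ : tu * _ = tu * _)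
        refine htu.mul_right_injective (?_ : tu * _ = tu * _)
        have : algebraMap B L (num x) * algebraMap B L (num y) = tu * algebraMap B L (num (x * y)) := by
          rw [← map_mul, ← hnum_mul, map_mul]
        calc tu * (tu * ((↑htu.unit⁻¹ : L) * algebraMap B L (num (x * y))))
            = tu * algebraMap B L (num (x * y)) := by rw [← mul_assoc tu (↑htu.unit⁻¹ : L), htu.mul_val_inv, one_mul]
          _ = algebraMap B L (num x) * algebraMap B L (num y) := this.symm
          _ = (tu * (↑htu.unit⁻¹ : L)) * algebraMap B L (num x) * ((tu * (↑htu.unit⁻¹ : L)) * algebraMap B L (num y)) := by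
              rw [htu.mul_val_inv, one_mul, one_mul]
          _ = _ := by ring
      map_zero' := by rw [show num 0 = 0 by simpa using hnum_base 0, map_zero, mul_zero]
      map_add' := fun x y => by rw [hnum_add, map_add, mul_add]
      commutes' := fun b => by
        show (↑htu.unit⁻¹ : L) * algebraMap B L (num (algebraMap B T b)) = _
        rw [hnum_base, map_mul, ← mul_assoc, htu.val_inv_mul, one_mul] }
  have hj : Function.Injective j := fun x y h => by
    have h1 : num x = num y := IsFractionRing.injective B L (((htu.unit⁻¹).isUnit.mul_right_injective) h)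
    refine sub_eq_zero.1 (htT _ ?_)
    rw [mul_sub, ← hnum, ← hnum, h1, sub_self]
  haveI : Algebra.IsIntegral B T := inferInstance
  have hrange : ∀ z : L, IsIntegral B z → z ∈ j.range := by
    intro z hz
    obtain ⟨⟨b, ⟨s, hs⟩⟩, hbs⟩ := IsLocalization.surj (nonZeroDivisors B) z
    have hbs' : z * algebraMap B L s = algebraMap B L b := hbs
    obtain ⟨P, hP, hPz⟩ := hz
    let bT := algebraMap B T b
    let sT := algebraMap B T s
    have hsT : ∀ x : T, sT * x = 0 → x = 0 := fun x hx => hj (by
      have := congrArg j hx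
      rw [map_mul, map_zero, j.commutes] at this
      rw [map_zero]
      exact (IsLocalization.map_units L (⟨s, hs⟩ : nonZeroDivisors B)).mul_right_eq_zero.1 this)
    suffices hdvd : bT ∈ Ideal.span {sT} by
      obtain ⟨w, hw⟩ := Ideal.mem_span_singleton'.1 hdvd
      refine ⟨w, (IsLocalization.map_units L (⟨s, hs⟩ : nonZeroDivisors B)).mul_left_injective ?_⟩
      show j w * algebraMap B L s = z * algebraMap B L s
      rw [hbs', ← j.commutes s, ← map_mul, hw, j.commutes]
    have hPs : (P.scaleRoots s).eval b = 0 := by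
      refine IsFractionRing.injective B L ?_
      rw [map_zero, ← Polynomial.eval₂_at_apply, ← hbs', mul_comm]
      exact Polynomial.scaleRoots_eval₂_eq_zero _ hPz
    refine Ideal.mem_of_localization_maximal fun n hn => ?_
    haveI := hn
    obtain ⟨hdom, hic⟩ := localization_tensor hm hred hgen hu huN n
    let R := Localization.AtPrime n
    have hs0 : algebraMap T R sT ≠ 0 := fun h0 => by
      obtain ⟨⟨c, hc⟩, hc0⟩ := (IsLocalization.map_eq_zero_iff n.primeCompl R _).1 h0
      exact hc (by rw [hsT c (by rw [mul_comm]; exact hc0)]; exact n.zero_mem)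
    rw [Ideal.map_span, Set.image_singleton, Ideal.mem_span_singleton]
    let K := FractionRing R
    let ψ : B →+* R := (algebraMap T R).comp (algebraMap B T)
    let f : B →+* K := (algebraMap R K).comp ψ
    have hsK : f s ≠ 0 := fun h => hs0 (IsFractionRing.injective R K (h.trans (map_zero _).symm))
    let r : K := f b / f s
    have hr : f s * r = f b := mul_div_cancel₀ _ hsK
    have hr0 : P.eval₂ f r = 0 := by
      have h1 := Polynomial.scaleRoots_eval₂_mul (p := P) f r s
      rw [hr, Polynomial.eval₂_at_apply, hPs, map_zero] at h1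
      exact (mul_eq_zero.1 h1.symm).resolve_left (pow_ne_zero _ hsK)
    have hint : IsIntegral R r := ⟨P.map ψ, hP.map ψ, by rw [Polynomial.eval₂_map]; exact hr0⟩
    obtain ⟨q, hq⟩ := IsIntegrallyClosed.isIntegral_iff.1 hint
    refine ⟨q, IsFractionRing.injective R K ?_⟩
    rw [map_mul, hq]
    exact hr.symm
  let E : T ≃ₗ[B] integralClosure B L := LinearEquiv.ofBijective
    ((j.codRestrict (integralClosure B L) fun x => (Algebra.IsIntegral.isIntegral (R := B) x).map j).toLinearMap)
    ⟨fun x y h => hj (congrArg Subtype.val h), fun z => by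
      obtain ⟨x, hx⟩ := hrange z.1 z.2
      exact ⟨x, Subtype.ext hx⟩⟩
  let q := LinearMap.range (Algebra.linearMap A N)
  let qT : Submodule B T := LinearMap.range (Algebra.linearMap B T)
  have h1 : Module.length B (B ⊗[A] (N ⧸ q)) = Module.length B (T ⧸ qT) := by
    let π : T →ₗ[B] B ⊗[A] (N ⧸ q) := AlgebraTensorModule.lTensor B B q.mkQ
    have hsurj : Function.Surjective π := LinearMap.lTensor_surjective B q.mkQ_surjective
    have hexact : Function.Exact ((Algebra.linearMap A N).lTensor B) (q.mkQ.lTensor B) :=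
      lTensor_exact B (LinearMap.exact_map_mkQ_range _) q.mkQ_surjective
    have hker : LinearMap.ker π = qT := by
      ext x
      refine ⟨fun hx => ?_, ?_⟩
      · obtain ⟨y, rfl⟩ := (hexact x).1 hx
        refine ⟨TensorProduct.rid A B y, ?_⟩
        clear hx
        induction y using TensorProduct.induction_on with
        | zero => simp
        | tmul b a =>
          show algebraMap B (B ⊗[A] N) (TensorProduct.rid A B (b ⊗ₜ a)) = b ⊗ₜ algebraMap A N a
          rw [TensorProduct.rid_tmul, Algebra.TensorProduct.algebraMap_apply, Algebra.algebraMap_self, RingHom.id_apply,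
            Algebra.algebraMap_eq_smul_one a, TensorProduct.smul_tmul]
        | add y z hy hz =>
          simp only [map_add]
          exact congrArg₂ (· + ·) hy hz
      · rintro ⟨b, rfl⟩
        refine (hexact _).2 ⟨b ⊗ₜ 1, ?_⟩
        show b ⊗ₜ[A] algebraMap A N 1 = algebraMap B (B ⊗[A] N) b
        rw [map_one, Algebra.TensorProduct.algebraMap_apply, Algebra.algebraMap_self, RingHom.id_apply]
    rw [← hker]
    exact (π.quotKerEquivOfSurjective hsurj).length_eq.symm
  have h2 : Module.length B (T ⧸ qT) = Curv2.deltaInv B := by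
    refine LinearEquiv.length_eq (Submodule.Quotient.equiv _ _ E ?_)
    rw [← LinearMap.range_comp]
    congr 1
    exact LinearMap.ext fun b => Subtype.ext (j.commutes b)
  rw [← h2, ← h1, IsLocalRing.length_baseChange, hm]
  haveI : IsSimpleModule B (B ⧸ maximalIdeal B) :=
    isSimpleModule_iff_isCoatom.2 (IsLocalRing.maximalIdeal.isMaximal B).out
  rw [Module.length_eq_one B (B ⧸ maximalIdeal B), mul_one]

end tensor

/-- **Invariance of `δ`** under flat local extensions `A → B` with `m_A B = m_B` such that the fibres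
`B ⊗ κ(m')` over the maximal ideals `m'` of the normalization are reduced. -/
theorem deltaInv_eq {A : Type u} [CommRing A] [IsLocalRing A] [IsNoetherianRing A] [IsReduced A]
    (hfin : Module.Finite A (integralClosure A (FractionRing A))) (hdim : ringKrullDim A = 1)
    (B : Type u) [CommRing B] [IsLocalRing B] [IsNoetherianRing B] [Algebra A B] [Module.Flat A B]
    [IsLocalHom (algebraMap A B)] (hm : (maximalIdeal A).map (algebraMap A B) = maximalIdeal B)
    (hred : ∀ m : Ideal (integralClosure A (FractionRing A)), m.IsMaximal →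
      IsReduced (B ⊗[A] (integralClosure A (FractionRing A) ⧸ m))) :
    Curv2.deltaInv B = Curv2.deltaInv A := by
  haveI := hfin
  obtain ⟨u, hum, hu⟩ := exists_nzd_mem (A := A) hdim
  obtain ⟨t, ht, hden⟩ := exists_denom hfin
  have hN : ∀ {v : A}, v ∈ nonZeroDivisors A →
      ∀ z : integralClosure A (FractionRing A), algebraMap A _ v * z = 0 → z = 0 := fun {v} hv z hz => by
    refine Subtype.ext ?_
    have h1 : algebraMap A (FractionRing A) v * (z : FractionRing A) = 0 := congrArg Subtype.val hz
    exact (IsLocalization.map_units (FractionRing A) (⟨v, hv⟩ : nonZeroDivisors A)).mul_right_eq_zero.1 h1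
  exact length_quotient_eq A (integralClosure A (FractionRing A)) B hm hred
    (fun m hm' hmA => haveI := hm'; exists_generator hfin hdim m hmA) hum (hN hu)
    (fun a b h => IsFractionRing.injective A (FractionRing A) (congrArg Subtype.val h))
    inferInstance (fun z hz => mem_nonZeroDivisors_iff_left.1 ht z hz) (hN ht) hden

end Groth.Agent.DeltaLib
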