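import Groth.Prelude.Def_Brnch
import Groth.Prelude.Def_Curv2
import Groth.Agent.NormCurve.Branches
import Mathlib.RingTheory.Length
import Mathlib.LinearAlgebra.FreeModule.Finite.Matrix
import Mathlib.RingTheory.Ideal.Quotient.Operations

/-!
# Geometric branches and the δ-invariant
-/

open IsLocalRing

namespace Groth.Agent.DeltaLib

universe u

/-- The delta invariant of a reduced ring, computed with the normalization of the reduction. -/
theorem deltaInv_eq_length (A : Type u) [CommRing A] [IsReduced A] :
    Curv2.deltaInv A =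
      Module.length A (CAlg2.normRed A ⧸ LinearMap.range (Algebra.linearMap A (CAlg2.normRed A))) := by
  let L := FractionRing (CAlg2.red A)
  have hbij : Function.Bijective (algebraMap A (CAlg2.red A)) := by
    refine ⟨fun a b h => ?_, Ideal.Quotient.mk_surjective⟩
    rw [Ideal.Quotient.algebraMap_eq, Ideal.Quotient.eq, nilradical_eq_zero, Submodule.zero_eq_bot,
      Ideal.mem_bot, sub_eq_zero] at h
    exact h
  let E : A ≃ₐ[A] CAlg2.red A := AlgEquiv.ofBijective (Algebra.ofId A _) hbij
  have htow : ∀ a : A, algebraMap A L a = algebraMap (CAlg2.red A) L (E a) :=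
    fun a => IsScalarTower.algebraMap_apply A (CAlg2.red A) L a
  haveI : IsFractionRing A L :=
    { map_units := fun s => by
        rw [htow]
        refine IsLocalization.map_units L (⟨E s, ?_⟩ : nonZeroDivisors (CAlg2.red A))
        exact MulEquivClass.map_nonZeroDivisors E ▸ ⟨s, s.2, rfl⟩
      surj := fun z => by
        obtain ⟨⟨a, s⟩, h⟩ := IsLocalization.surj (nonZeroDivisors (CAlg2.red A)) z
        refine ⟨⟨E.symm a, ⟨E.symm s, MulEquivClass.map_nonZeroDivisors E.symm ▸ ⟨_, s.2, rfl⟩⟩⟩, ?_⟩
        rw [htow, htow, E.apply_symm_apply, E.apply_symm_apply]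
        exact h
      exists_of_eq := fun {a b} h => by
        rw [htow, htow] at h
        exact ⟨1, by rw [E.injective (IsFractionRing.injective (CAlg2.red A) L h)]⟩ }
  let σ : FractionRing A ≃ₐ[A] L := IsLocalization.algEquiv (nonZeroDivisors A) _ _
  have hmem : ∀ z : FractionRing A,
      z ∈ integralClosure A (FractionRing A) ↔ σ z ∈ integralClosure (CAlg2.red A) L := by
    intro z
    show IsIntegral A z ↔ IsIntegral (CAlg2.red A) (σ z)
    rw [← isIntegral_algHom_iff σ.toAlgHom σ.injective]
    exact ⟨fun h => h.tower_top, fun h => isIntegral_trans _ h⟩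
  let e : integralClosure A (FractionRing A) ≃ₗ[A] CAlg2.normRed A :=
    { toFun := fun z => ⟨σ z.1, (hmem z.1).1 z.2⟩
      invFun := fun z => ⟨σ.symm z.1, (hmem _).2 (by rw [σ.apply_symm_apply]; exact z.2)⟩
      left_inv := fun z => Subtype.ext (σ.symm_apply_apply _)
      right_inv := fun z => Subtype.ext (σ.apply_symm_apply _)
      map_add' := fun z w => Subtype.ext (map_add σ _ _)
      map_smul' := fun a z => Subtype.ext (map_smul σ a _) }
  refine LinearEquiv.length_eq (Submodule.Quotient.equiv _ _ e ?_)
  rw [← LinearMap.range_comp]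
  congr 1
  refine LinearMap.ext fun a => Subtype.ext ?_
  show σ (algebraMap A (FractionRing A) a) = _
  rw [σ.commutes]
  rfl

section general

variable {A : Type u} [CommRing A] [IsLocalRing A] {N : Type u} [CommRing N] [Algebra A N]

/-- Length bound from residue fields of finitely many maximal ideals over the maximal ideal. -/
theorem sum_length_le (s : Finset (MaximalSpectrum N))
    (hs : ∀ m ∈ s, m.asIdeal.comap (algebraMap A N) = maximalIdeal A) :
    ∑ m ∈ s, Module.length A (N ⧸ m.asIdeal) ≤
      Module.length A (N ⧸ LinearMap.range (Algebra.linearMap A N)) + 1 := by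
  classical
  let P := ∀ m : s, N ⧸ m.1.asIdeal
  let π : N →ₗ[A] P := LinearMap.pi fun m => (Ideal.Quotient.mkₐ A m.1.asIdeal).toLinearMap
  have hπ : Function.Surjective π := fun z => by
    choose x hx using fun m => Ideal.Quotient.mk_surjective (z m)
    obtain ⟨r, hr⟩ := Ideal.exists_forall_sub_mem_ideal (I := fun m : s => m.1.asIdeal)
      (fun i j hij => Ideal.isCoprime_iff_sup_eq.2 (i.1.isMaximal.coprime_of_ne j.1.isMaximal fun h =>
        hij (Subtype.ext (MaximalSpectrum.ext h)))) x
    exact ⟨r, funext fun m => (Ideal.Quotient.eq.2 (hr m)).trans (hx m)⟩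
  let ρ : A →ₗ[A] P := π.comp (Algebra.linearMap A N)
  have h1 : Module.length A (LinearMap.range ρ) ≤ 1 := by
    haveI : IsSimpleModule A (A ⧸ maximalIdeal A) :=
      isSimpleModule_iff_isCoatom.2 (IsLocalRing.maximalIdeal.isMaximal A).out
    refine le_trans (Module.length_le_of_surjective
      ((maximalIdeal A).liftQ ρ.rangeRestrict ?_) ?_) (Module.length_eq_one A (A ⧸ maximalIdeal A)).le
    · intro a ha
      rw [LinearMap.ker_rangeRestrict, LinearMap.mem_ker]
      funext m
      refine Ideal.Quotient.eq_zero_iff_mem.2 ?_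
      rw [← hs m.1 m.2] at ha
      exact ha
    · intro z
      obtain ⟨a, ha⟩ := LinearMap.surjective_rangeRestrict ρ z
      exact ⟨Submodule.Quotient.mk a, ha⟩
  have h2 : Module.length A (P ⧸ LinearMap.range ρ) ≤
      Module.length A (N ⧸ LinearMap.range (Algebra.linearMap A N)) := by
    refine Module.length_le_of_surjective
      (Submodule.mapQ _ _ π (by rintro _ ⟨a, rfl⟩; exact ⟨a, rfl⟩)) ?_
    intro z
    obtain ⟨w, rfl⟩ := Submodule.mkQ_surjective _ z
    obtain ⟨n, rfl⟩ := hπ w
    exact ⟨Submodule.Quotient.mk n, rfl⟩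
  have h3 := Module.length_eq_add_of_exact (LinearMap.range ρ).subtype (LinearMap.range ρ).mkQ
    (Submodule.injective_subtype _) (Submodule.mkQ_surjective _) (LinearMap.exact_subtype_mkQ _)
  calc ∑ m ∈ s, Module.length A (N ⧸ m.asIdeal) = ∑ m : s, Module.length A (N ⧸ m.1.asIdeal) :=
        (Finset.sum_coe_sort s fun m => Module.length A (N ⧸ m.asIdeal)).symm
    _ = Module.length A P := (Module.length_pi_of_fintype (R := A) fun m : s => N ⧸ m.1.asIdeal).symm
    _ = Module.length A (LinearMap.range ρ) + Module.length A (P ⧸ LinearMap.range ρ) := h3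
    _ ≤ 1 + Module.length A (N ⧸ LinearMap.range (Algebra.linearMap A N)) := add_le_add h1 h2
    _ = _ := add_comm _ _

/-- Embeddings of a residue field over the residue field of `A` are at most its length. -/
theorem card_emb_le_length (m : Ideal N) [m.IsMaximal] (hm : m.comap (algebraMap A N) = maximalIdeal A) :
    ENat.card {σ : N ⧸ m →+* AlgebraicClosure (ResidueField A) //
      σ.comp ((Ideal.Quotient.mk m).comp (algebraMap A N)) =
        (algebraMap (ResidueField A) (AlgebraicClosure (ResidueField A))).comp (residue A)} ≤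
      Module.length A (N ⧸ m) := by
  letI := Ideal.Quotient.field m
  let j : ResidueField A →+* N ⧸ m := Ideal.Quotient.lift (maximalIdeal A)
    ((Ideal.Quotient.mk m).comp (algebraMap A N)) fun a ha => Ideal.Quotient.eq_zero_iff_mem.2 (hm.symm.le ha)
  letI := j.toAlgebra
  haveI : IsScalarTower A (ResidueField A) (N ⧸ m) := IsScalarTower.of_algebraMap_eq fun a => rfl
  let K := AlgebraicClosure (ResidueField A)
  have e : {σ : N ⧸ m →+* K //
      σ.comp ((Ideal.Quotient.mk m).comp (algebraMap A N)) =
        (algebraMap (ResidueField A) K).comp (residue A)} ≃ (N ⧸ m →ₐ[ResidueField A] K) :=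
    { toFun := fun σ =>
        { toRingHom := σ.1
          commutes' := fun r => by
            obtain ⟨a, rfl⟩ := residue_surjective r
            exact RingHom.congr_fun σ.2 a }
      invFun := fun τ => ⟨τ.toRingHom, RingHom.ext fun a => τ.commutes (residue A a)⟩
      left_inv := fun σ => rfl
      right_inv := fun τ => rfl }
  rw [ENat.card_congr e, Module.length_eq_of_surjective (R := ResidueField A) (S := A) residue_surjective]
  by_cases hf : Module.Finite (ResidueField A) (N ⧸ m)
  · rw [Module.length_eq_finrank, ENat.card_eq_coe_natCard]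
    exact_mod_cast card_algHom_le_finrank (ResidueField A) (N ⧸ m) K
  · rw [Module.length_eq_rank, Cardinal.toENat_eq_top.2]
    · exact le_top
    · by_contra h
      exact hf (Module.rank_lt_aleph0_iff.1 (not_le.1 h))

end general

theorem numGeomBranches_le (A : Type u) [CommRing A] [IsLocalRing A] [IsReduced A]
    (hfin : (minimalPrimes A).Finite) : Brnch.numGeomBranches A ≤ Curv2.deltaInv A + 1 := by
  classical
  rw [Brnch.numGeomBranches, if_pos hfin, NormCurve.card_sigma_eq_tsum, deltaInv_eq_length A]
  refine Summable.tsum_le_of_sum_le ⟨_, hasSum_of_isLUB _ (isLUB_iSup)⟩ fun s => ?_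
  have hcomap : ∀ m : MaximalSpectrum (CAlg2.normRed A),
      m.asIdeal.comap (algebraMap A (CAlg2.normRed A)) = maximalIdeal A := fun m => by
    haveI : Algebra.IsIntegral A (CAlg2.normRed A) := by
      haveI : Algebra.IsIntegral A (CAlg2.red A) :=
        algebraMap_isIntegral_iff.1 (RingHom.isIntegral_of_surjective _ Ideal.Quotient.mk_surjective)
      exact Algebra.IsIntegral.trans (CAlg2.red A)
    haveI := m.isMaximal
    exact IsLocalRing.eq_maximalIdeal (Ideal.isMaximal_comap_of_isIntegral_of_isMaximal m.asIdeal)
  refine le_trans (Finset.sum_le_sum fun m _ => ?_) (sum_length_le s fun m _ => hcomap m)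
  haveI := m.isMaximal
  exact card_emb_le_length m.asIdeal (hcomap m)

end Groth.Agent.DeltaLib
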