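import Groth.Agent.DeltaLib.FieldExt
import Mathlib.RingTheory.Ideal.KrullsHeightTheorem

/-!
# The closed fibre of a local ring of a base change
-/

open IsLocalRing TensorProduct

namespace Groth.Agent.DeltaLib

universe u

set_option linter.style.haveILetI false

/-- A flat local map of Noetherian local rings of equal dimension with reduced closed fibre has
`m_A B = m_B`. -/
theorem map_maximalIdeal_eq {A B : Type u} [CommRing A] [CommRing B] [IsLocalRing A] [IsLocalRing B]
    [IsNoetherianRing A] [IsNoetherianRing B] [Algebra A B] [Module.Flat A B] [IsLocalHom (algebraMap A B)]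
    (hdim : ringKrullDim A = ringKrullDim B) [IsReduced (B ⊗[A] ResidueField A)] :
    (maximalIdeal A).map (algebraMap A B) = maximalIdeal B := by
  let I := (maximalIdeal A).map (algebraMap A B)
  haveI : IsReduced (B ⧸ I) :=
    let e : B ⊗[A] ResidueField A ≃ₐ[B] B ⧸ I := (Algebra.TensorProduct.quotIdealMapEquivTensorQuot B _).symm
    isReduced_of_injective e.symm e.symm.injective
  have hle : I ≤ maximalIdeal B := ((local_hom_TFAE (algebraMap A B)).out 0 2).1 ‹_›
  haveI : (maximalIdeal B).LiesOver (maximalIdeal A) :=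
    ⟨((((local_hom_TFAE (algebraMap A B)).out 0 4).1 ‹_› :
      (maximalIdeal B).comap (algebraMap A B) = maximalIdeal A)).symm⟩
  have h := Ideal.height_eq_height_add_of_liesOver_of_hasGoingDown (maximalIdeal A) (maximalIdeal B)
  rw [← maximalIdeal_height_eq_ringKrullDim, ← maximalIdeal_height_eq_ringKrullDim, WithBot.coe_inj] at hdim
  rw [hdim] at h
  have hfin : (maximalIdeal B).height ≠ ⊤ := Ideal.height_ne_top (maximalIdeal.isMaximal B).ne_top
  have h0 : ((maximalIdeal B).map (Ideal.Quotient.mk I)).height = 0 :=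
    (ENat.addLECancellable_of_ne_top hfin).inj.1 (h.symm.trans (add_zero _).symm)
  haveI : ((maximalIdeal B).map (Ideal.Quotient.mk I)).IsPrime :=
    Ideal.map_isPrime_of_surjective Ideal.Quotient.mk_surjective (by rwa [Ideal.mk_ker])
  have hmin := Ideal.height_eq_zero_iff.1 h0
  refine le_antisymm hle (le_trans ?_ ((Ideal.isRadical_iff_quotient_reduced I).2 inferInstance))
  rw [Ideal.radical_eq_sInf]
  refine le_sInf fun q ⟨hIq, hq⟩ => ?_
  have hq' : (q.map (Ideal.Quotient.mk I)).IsPrime :=
    Ideal.map_isPrime_of_surjective Ideal.Quotient.mk_surjective (by rwa [Ideal.mk_ker])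
  have h1 := hmin.2 ⟨hq', bot_le⟩ (Ideal.map_mono (le_maximalIdeal hq.ne_top))
  have h2 := Ideal.comap_mono (f := Ideal.Quotient.mk I) h1
  rw [Ideal.comap_map_of_surjective _ Ideal.Quotient.mk_surjective,
    Ideal.comap_map_of_surjective _ Ideal.Quotient.mk_surjective, ← RingHom.ker_eq_comap_bot, Ideal.mk_ker,
    sup_eq_left.2 hle, sup_eq_left.2 hIq] at h2
  exact h2

end Groth.Agent.DeltaLib
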