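import Groth.Agent.DeltaLib.BaseChange

/-!
# The δ-invariant does not decrease under flat local extensions
-/

open IsLocalRing TensorProduct

namespace Groth.Agent.DeltaLib

universe u

set_option linter.style.haveILetI false
set_option linter.unusedSectionVars false

variable {A : Type u} [CommRing A] [IsLocalRing A] {N : Type u} [CommRing N] [Algebra A N] [Module.Finite A N]
  {B : Type u} [CommRing B] [IsLocalRing B] [Algebra A B] [Module.Flat A B] [IsLocalHom (algebraMap A B)]

/-- `δ(B)` bounds the length of `N/A` for a finite birational extension `N` of `A`. -/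
theorem length_quotient_le (hinj : Function.Injective (algebraMap A N)) {t : A}
    (htA : ∀ z : A, t * z = 0 → z = 0) (htN : ∀ z : N, algebraMap A N t * z = 0 → z = 0)
    (hden : ∀ z : N, ∃ a : A, algebraMap A N a = t • z) :
    Module.length A (N ⧸ LinearMap.range (Algebra.linearMap A N)) ≤ Curv2.deltaInv B := by
  let T := B ⊗[A] N
  let L := FractionRing B
  have hi : Function.Injective (algebraMap B T) :=
    Algebra.TensorProduct.includeLeft_injective (S := B) (A := B) (B := N) hinj
  have htB : algebraMap A B t ∈ nonZeroDivisors B := by
    refine mem_nonZeroDivisors_iff_left.2 fun b hb => ?_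
    have hinj : Function.Injective (LinearMap.lTensor B (LinearMap.mulLeft A t)) :=
      Module.Flat.lTensor_preserves_injective_linearMap _ fun a b h =>
        sub_eq_zero.1 (htA _ ((mul_sub _ a b).trans (sub_eq_zero.2 h)))
    have h1 : (TensorProduct.rid A B).symm b = 0 := by
      refine hinj ?_
      rw [map_zero]
      apply (TensorProduct.rid A B).injective
      simp [Algebra.smul_def, hb]
    simpa using congrArg (TensorProduct.rid A B) h1
  have htT : ∀ x : T, algebraMap A T t * x = 0 → x = 0 := by
    intro x hx
    have hinj : Function.Injective (LinearMap.lTensor B (LinearMap.mulLeft A (algebraMap A N t))) :=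
      Module.Flat.lTensor_preserves_injective_linearMap _ fun a b h =>
        sub_eq_zero.1 (htN _ ((mul_sub _ a b).trans (sub_eq_zero.2 h)))
    have heq : ∀ y : T, LinearMap.lTensor B (LinearMap.mulLeft A (algebraMap A N t)) y = algebraMap A T t * y :=
      fun y => by
        induction y using TensorProduct.induction_on with
        | zero => simp
        | tmul b z =>
          show b ⊗ₜ[A] (algebraMap A N t * z) = algebraMap A (B ⊗[A] N) t * b ⊗ₜ[A] z
          rw [Algebra.TensorProduct.algebraMap_apply', Algebra.TensorProduct.tmul_mul_tmul, one_mul]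
        | add x y hx' hy' => rw [map_add, hx', hy', mul_add]
    exact hinj (by rw [map_zero, heq]; exact hx)
  have htimage : ∀ x : T, ∃ b : B, algebraMap B T b = algebraMap A T t * x := by
    intro x
    induction x using TensorProduct.induction_on with
    | zero => exact ⟨0, by simp⟩
    | tmul b z =>
      obtain ⟨a, ha⟩ := hden z
      refine ⟨a • b, ?_⟩
      rw [← Algebra.smul_def, TensorProduct.smul_tmul', TensorProduct.smul_tmul, ← ha,
        Algebra.algebraMap_eq_smul_one a, Algebra.TensorProduct.algebraMap_apply, Algebra.algebraMap_self,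
        RingHom.id_apply, TensorProduct.smul_tmul]
    | add x y hx hy =>
      obtain ⟨b, hb⟩ := hx
      obtain ⟨c, hc⟩ := hy
      exact ⟨b + c, by rw [map_add, hb, hc, mul_add]⟩
  choose num hnum using htimage
  let L := FractionRing B
  let tu : L := algebraMap B L (algebraMap A B t)
  have htu : IsUnit tu := IsLocalization.map_units L (⟨_, htB⟩ : nonZeroDivisors B)
  have hnum_add : ∀ x y, num (x + y) = num x + num y := fun x y => hi (by rw [map_add, hnum, hnum, hnum, mul_add])
  have hnum_mul : ∀ x y, algebraMap A B t * num (x * y) = num x * num y := fun x y => hi (by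
    rw [map_mul, map_mul, hnum, hnum, hnum, ← IsScalarTower.algebraMap_apply]; ring)
  have hnum_base : ∀ b, num (algebraMap B T b) = algebraMap A B t * b := fun b => hi (by
    rw [hnum, map_mul, ← IsScalarTower.algebraMap_apply])
  let j : T →ₐ[B] L :=
    { toFun := fun x => (↑htu.unit⁻¹ : L) * algebraMap B L (num x)
      map_one' := by
        rw [show num 1 = algebraMap A B t by simpa using hnum_base 1]
        exact htu.val_inv_mul
      map_mul' := fun x y => by
        refine htu.mul_right_injective (?_ : tu * _ = tu * _)
        refine htu.mul_right_injective (?_ : tu * _ = tu * _)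
        have : algebraMap B L (num x) * algebraMap B L (num y) = tu * algebraMap B L (num (x * y)) := by
          rw [← map_mul, ← hnum_mul, map_mul]
        calc tu * (tu * ((↑htu.unit⁻¹ : L) * algebraMap B L (num (x * y))))
            = tu * algebraMap B L (num (x * y)) := by rw [← mul_assoc tu (↑htu.unit⁻¹ : L), htu.mul_val_inv, one_mul]
          _ = algebraMap B L (num x) * algebraMap B L (num y) := this.symm
          _ = (tu * (↑htu.unit⁻¹ : L)) * algebraMap B L (num x) * ((tu * (↑htu.unit⁻¹ : L)) * algebraMap B L (num y)) := by
              rw [htu.mul_val_inv, one_mul, one_mul]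
          _ = _ := by ring
      map_zero' := by rw [show num 0 = 0 by simpa using hnum_base 0, map_zero, mul_zero]
      map_add' := fun x y => by rw [hnum_add, map_add, mul_add]
      commutes' := fun b => by
        show (↑htu.unit⁻¹ : L) * algebraMap B L (num (algebraMap B T b)) = _
        rw [hnum_base, map_mul, ← mul_assoc, htu.val_inv_mul, one_mul] }
  have hj : Function.Injective j := fun x y h => by
    have h1 : num x = num y := IsFractionRing.injective B L (((htu.unit⁻¹).isUnit.mul_right_injective) h)
    refine sub_eq_zero.1 (htT _ ?_)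
    rw [mul_sub, ← hnum, ← hnum, h1, sub_self]
  let E : T →ₗ[B] integralClosure B L :=
    (j.codRestrict (integralClosure B L) fun x => (Algebra.IsIntegral.isIntegral (R := B) x).map j).toLinearMap
  have hEinj : Function.Injective E := fun x y h => hj (congrArg Subtype.val h)
  let q := LinearMap.range (Algebra.linearMap A N)
  let qT : Submodule B T := LinearMap.range (Algebra.linearMap B T)
  have h1 : Module.length B (B ⊗[A] (N ⧸ q)) = Module.length B (T ⧸ qT) := by
    let π : T →ₗ[B] B ⊗[A] (N ⧸ q) := AlgebraTensorModule.lTensor B B q.mkQ
    have hsurj : Function.Surjective π := LinearMap.lTensor_surjective B q.mkQ_surjective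
    have hexact : Function.Exact ((Algebra.linearMap A N).lTensor B) (q.mkQ.lTensor B) :=
      lTensor_exact B (LinearMap.exact_map_mkQ_range _) q.mkQ_surjective
    have hker : LinearMap.ker π = qT := by
      ext x
      refine ⟨fun hx => ?_, ?_⟩
      · obtain ⟨y, rfl⟩ := (hexact x).1 hx
        refine ⟨TensorProduct.rid A B y, ?_⟩
        clear hx
        induction y using TensorProduct.induction_on with
        | zero => simp
        | tmul b a =>
          show algebraMap B (B ⊗[A] N) (TensorProduct.rid A B (b ⊗ₜ a)) = b ⊗ₜ algebraMap A N a
          rw [TensorProduct.rid_tmul, Algebra.TensorProduct.algebraMap_apply, Algebra.algebraMap_self, RingHom.id_apply,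
            Algebra.algebraMap_eq_smul_one a, TensorProduct.smul_tmul]
        | add y z hy hz =>
          simp only [map_add]
          exact congrArg₂ (· + ·) hy hz
      · rintro ⟨b, rfl⟩
        refine (hexact _).2 ⟨b ⊗ₜ 1, ?_⟩
        show b ⊗ₜ[A] algebraMap A N 1 = algebraMap B (B ⊗[A] N) b
        rw [map_one, Algebra.TensorProduct.algebraMap_apply, Algebra.algebraMap_self, RingHom.id_apply]
    rw [← hker]
    exact (π.quotKerEquivOfSurjective hsurj).length_eq.symm
  have h2 : Module.length B (T ⧸ qT) ≤ Curv2.deltaInv B := by
    have hE : ∀ b : B, E (algebraMap B T b) = algebraMap B (integralClosure B L) b := fun b =>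
      Subtype.ext (j.commutes b)
    let p : Submodule B (integralClosure B L) := LinearMap.range (Algebra.linearMap B (integralClosure B L))
    have hle : qT ≤ p.comap E := by
      rintro _ ⟨b, rfl⟩
      exact ⟨b, (hE b).symm⟩
    refine Module.length_le_of_injective (Submodule.mapQ qT p E hle) ?_
    rw [← LinearMap.ker_eq_bot, eq_bot_iff]
    intro x hx
    obtain ⟨x, rfl⟩ := Submodule.mkQ_surjective _ x
    rw [LinearMap.mem_ker, Submodule.mkQ_apply, Submodule.mapQ_apply, Submodule.Quotient.mk_eq_zero] at hx
    obtain ⟨b, hb⟩ := hx
    rw [Submodule.mem_bot, Submodule.mkQ_apply, Submodule.Quotient.mk_eq_zero]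
    exact ⟨b, hEinj ((hE b).trans hb)⟩
  refine le_trans ?_ h2
  rw [← h1, IsLocalRing.length_baseChange]
  refine le_mul_of_one_le_right bot_le ?_
  rw [ENat.one_le_iff_ne_zero, ne_eq, Module.length_eq_zero_iff]
  refine not_subsingleton_iff_nontrivial.2 (Ideal.Quotient.nontrivial_iff.2 ?_)
  exact ne_top_of_le_ne_top (maximalIdeal.isMaximal B).ne_top
    (((local_hom_TFAE (algebraMap A B)).out 0 2).1 ‹_›)

/-- `δ(A) ≤ δ(B)` for flat local extensions of a ring with finite normalization. -/
theorem deltaInv_le_of_flat {A : Type u} [CommRing A] [IsLocalRing A] [IsNoetherianRing A] [IsReduced A]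
    (hfin : Module.Finite A (integralClosure A (FractionRing A)))
    (B : Type u) [CommRing B] [IsLocalRing B] [Algebra A B] [Module.Flat A B] [IsLocalHom (algebraMap A B)] :
    Curv2.deltaInv A ≤ Curv2.deltaInv B := by
  haveI := hfin
  obtain ⟨t, ht, hden⟩ := exists_denom hfin
  refine length_quotient_le (fun a b h => IsFractionRing.injective A (FractionRing A) (congrArg Subtype.val h))
    (fun z hz => mem_nonZeroDivisors_iff_left.1 ht z hz) (fun z hz => Subtype.ext ?_) hden
  have h1 : algebraMap A (FractionRing A) t * (z : FractionRing A) = 0 := congrArg Subtype.val hz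
  exact (IsLocalization.map_units (FractionRing A) (⟨t, ht⟩ : nonZeroDivisors A)).mul_right_eq_zero.1 h1

end Groth.Agent.DeltaLib
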